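import Groth.Agent.Lib.QuotExt3.Sub
import Groth.Agent.Lib.HilbBC25.Basic
import Groth.Agent.Lib.Exact8.StalkBC2
import Groth.Agent.Lib.RelPCS8.FlatTerms

/-!
# Pullbacks of members of Quot along arbitrary morphisms
-/

set_option autoImplicit false
set_option linter.style.haveILetI false
set_option backward.isDefEq.respectTransparency.types false

universe u

open CategoryTheory CategoryTheory.Limits AlgebraicGeometry

namespace Groth.Agent.QuotExt3

open ModLimH13

theorem hom_ext_pull {W Z : Scheme.{u}} (p : W ⟶ Z) {M : Z.Modules} {N : W.Modules}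
    (α β : (Scheme.Modules.pullback p).obj M ⟶ N)
    (h : ∀ (U : Z.Opens) (s : Γ(M, U)), α.app (p ⁻¹ᵁ U) (M2.pullSec p M s) = β.app (p ⁻¹ᵁ U) (M2.pullSec p M s)) :
    α = β := by
  refine ((Scheme.Modules.pullbackPushforwardAdjunction p).homEquiv M N).injective ?_
  refine Scheme.Modules.hom_ext _ _ fun U => ?_
  ext s
  rw [Adjunction.homEquiv_unit, Adjunction.homEquiv_unit]
  exact h U s

theorem imageSubobject_epi_comp {C : Type*} [Category C] [Abelian C] {A B D : C} (e : A ⟶ B) [Epi e] (f : B ⟶ D) :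
    imageSubobject (e ≫ f) = imageSubobject f := by
  haveI := imageSubobject_comp_le_epi_of_epi e f
  haveI : IsIso (Subobject.ofLE _ _ (imageSubobject_comp_le e f)) := isIso_of_mono_of_epi _
  exact Subobject.eq_of_comm (asIso (Subobject.ofLE _ _ (imageSubobject_comp_le e f))) (Subobject.ofLE_arrow _)

variable {W' W'' W Y : Scheme.{u}}

theorem pullSec_eq_res' {W Z : Scheme.{u}} (p : W ⟶ Z) (M : Z.Modules) {U : Z.Opens} (s : Γ(M, U)) :
    M2.pullSec p M s = res' p M (W := U) (W' := p ⁻¹ᵁ U) le_rfl s :=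
  (ConcreteCategory.congr_hom (((Scheme.Modules.pullback p).obj M).presheaf.map_id (Opposite.op (p ⁻¹ᵁ U)))
    (M2.pullSec p M s)).symm

theorem cocycle (r : W'' ⟶ W') (p : W' ⟶ W) (g : W ⟶ Y) (M : Y.Modules) {g' : W' ⟶ Y} (w : p ≫ g = g')
    {g'' : W'' ⟶ Y} (w' : r ≫ g' = g'') (w'' : (r ≫ p) ≫ g = g'') :
    (Scheme.Modules.pullback r).map ((cmp p g w).hom.app M) ≫ (cmp r g' w').hom.app M =
      (Scheme.Modules.pullbackComp r p).hom.app ((Scheme.Modules.pullback g).obj M) ≫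
        (cmp (r ≫ p) g w'').hom.app M := by
  refine ((Scheme.Modules.pullbackPushforwardAdjunction r).homEquiv _ _).injective ?_
  refine ((Scheme.Modules.pullbackPushforwardAdjunction p).homEquiv _ _).injective ?_
  refine hom_ext_pull g _ _ fun V t => ?_
  rw [Adjunction.homEquiv_unit, Adjunction.homEquiv_unit, Adjunction.homEquiv_unit, Adjunction.homEquiv_unit]
  show ((cmp r g' w').hom.app M).app (r ⁻¹ᵁ p ⁻¹ᵁ g ⁻¹ᵁ V)
      (((Scheme.Modules.pullback r).map ((cmp p g w).hom.app M)).app (r ⁻¹ᵁ p ⁻¹ᵁ g ⁻¹ᵁ V)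
        (M2.pullSec r _ (M2.pullSec p _ (M2.pullSec g M t)))) =
    ((cmp (r ≫ p) g w'').hom.app M).app (r ⁻¹ᵁ p ⁻¹ᵁ g ⁻¹ᵁ V)
      (((Scheme.Modules.pullbackComp r p).hom.app _).app (r ⁻¹ᵁ p ⁻¹ᵁ g ⁻¹ᵁ V)
        (M2.pullSec r _ (M2.pullSec p _ (M2.pullSec g M t))))
  rw [pullbackComp_pullSec r p]
  have h1 : ((cmp p g w).hom.app M).app (p ⁻¹ᵁ g ⁻¹ᵁ V) (M2.pullSec p _ (M2.pullSec g M t)) =
      res' g' M (W := V) (W' := p ⁻¹ᵁ g ⁻¹ᵁ V) (by subst w; exact le_rfl) t := by
    rw [pullSec_eq_res' g M t, pullSec_eq_res' p]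
    exact cmp_res' p g M w le_rfl le_rfl t
  refine (congrArg (((cmp r g' w').hom.app M).app _) ((Amp.map_pullSec r _ _).trans (congrArg (M2.pullSec r _) h1))).trans ?_
  rw [pullSec_eq_res' r, pullSec_eq_res' g M t, pullSec_eq_res' (r ≫ p)]
  exact (cmp_res' r g' M w' _ _ t).trans (cmp_res' (r ≫ p) g M w'' _ _ t).symm

theorem image_pull (r : W'' ⟶ W') (p : W' ⟶ W) (g : W ⟶ Y) (M : Y.Modules) {g' : W' ⟶ Y} (w : p ≫ g = g')
    {g'' : W'' ⟶ Y} (w' : r ≫ g' = g'') {q : W'' ⟶ W} (hq : r ≫ p = q) (w'' : q ≫ g = g'')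
    (ψ₁ : (Scheme.Modules.pullback p).obj ((Scheme.Modules.pullback g).obj M) ⟶ (Scheme.Modules.pullback g').obj M)
    (h₁ : ψ₁ = (cmp p g w).hom.app M)
    (ψ₂ : (Scheme.Modules.pullback r).obj ((Scheme.Modules.pullback g').obj M) ⟶ (Scheme.Modules.pullback g'').obj M)
    (h₂ : ψ₂ = (cmp r g' w').hom.app M)
    (ψ₃ : (Scheme.Modules.pullback q).obj ((Scheme.Modules.pullback g).obj M) ⟶ (Scheme.Modules.pullback g'').obj M)
    (h₃ : ψ₃ = (cmp q g w'').hom.app M)
    {K : W.Modules} (a : K ⟶ (Scheme.Modules.pullback g).obj M) :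
    imageSubobject ((Scheme.Modules.pullback r).map (imageSubobject ((Scheme.Modules.pullback p).map a ≫ ψ₁)).arrow ≫ ψ₂) =
      imageSubobject ((Scheme.Modules.pullback q).map a ≫ ψ₃) := by
  subst hq h₁ h₂ h₃
  let f := (Scheme.Modules.pullback p).map a ≫ (cmp p g w).hom.app M
  haveI : Epi ((Scheme.Modules.pullback r).map (factorThruImageSubobject f)) :=
    haveI := (Scheme.Modules.pullbackPushforwardAdjunction r).leftAdjoint_preservesColimits
    inferInstance
  rw [← imageSubobject_epi_comp ((Scheme.Modules.pullback r).map (factorThruImageSubobject f)), ← Category.assoc,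
    ← Functor.map_comp, imageSubobject_arrow_comp, Functor.map_comp, Category.assoc, cocycle r p g M w w' w'']
  have h := (Scheme.Modules.pullbackComp r p).hom.naturality a
  rw [Functor.comp_map] at h
  rw [← Category.assoc, h, Category.assoc]
  exact imageSubobject_iso_comp _ _

variable {X S : Scheme.{u}} (f : X ⟶ S) (E : X.Modules)

/-- Pullbacks of subobjects compose. -/
theorem quotPull_comp {T T' T'' : Over S} (h : T'' ⟶ T') (g : T' ⟶ T) (K : Subobject (FGA.ET f E T)) :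
    FGA.quotPull f E (h ≫ g) K = FGA.quotPull f E h (FGA.quotPull f E g K) :=
  (image_pull (PicF.XTmap f h) (PicF.XTmap f g) (pullback.fst f T.hom) E (FGA.XTmap_fst f g) (FGA.XTmap_fst f h)
    (HilbBC25.XTmap_comp f h g).symm (FGA.XTmap_fst f (h ≫ g)) _ (etiso_hom f E g) _ (etiso_hom f E h) _
    (etiso_hom f E (h ≫ g)) K.arrow).symm

theorem nonempty_cokernel_pull {W Z : Scheme.{u}} (q : W ⟶ Z) {K N : Z.Modules} {N' : W.Modules} (a : K ⟶ N)
    (ψ : (Scheme.Modules.pullback q).obj N ⟶ N') [IsIso ψ] :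
    Nonempty ((Scheme.Modules.pullback q).obj (cokernel a) ≅
      cokernel (imageSubobject ((Scheme.Modules.pullback q).map a ≫ ψ)).arrow) := by
  haveI := (Scheme.Modules.pullbackPushforwardAdjunction q).leftAdjoint_preservesColimits
  let b := (Scheme.Modules.pullback q).map a ≫ ψ
  exact ⟨PreservesCokernel.iso _ a ≪≫ (cokernelCompIsIso ((Scheme.Modules.pullback q).map a) ψ).symm ≪≫
    cokernelIsoOfEq (imageSubobject_arrow_comp b).symm ≪≫
      cokernelEpiComp (factorThruImageSubobject b) (imageSubobject b).arrow⟩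

/-- Pullbacks of members are members. -/
theorem exists_quotPull {T T' : Over S} (g : T' ⟶ T) (K : FGA.QuotSet f E T) :
    ∃ L : FGA.QuotSet f E T', FGA.quotPull f E g K.1 = L.1 := by
  obtain ⟨e⟩ := nonempty_cokernel_pull (PicF.XTmap f g) K.1.arrow (FGA.ETiso f E g).hom
  have hc := M1.isCoh_pullback (PicF.XTmap f g) K.2.1
  refine ⟨⟨FGA.quotPull f E g K.1, ⟨M1.isQCoh_of_isIso e hc.1, M1.isFT_of_isIso e hc.2⟩, ?_⟩, rfl⟩
  exact RelPCS8.isFlatOver_of_iso e (Exact8.isFlatOver_pullback (HilbBC25.isPullback_XTmap f g) K.2.2)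

end Groth.Agent.QuotExt3
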