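import Groth.Agent.Lib.Hartogs3.Flat
import Mathlib.RingTheory.Ideal.Operations
import Mathlib.RingTheory.Ideal.Maps
import Mathlib.Algebra.Module.Projective

/-!
# Submodules with flat quotient along a small step

`M` is a free module over `B`, `M'` its reduction along `g : B → A` with kernel `(t)`, `M₀` the special fibre.
-/

set_option autoImplicit false
set_option linter.style.haveILetI false

universe u

open IsLocalRing

namespace Groth.Agent.QuotExt3

variable {B A : Type u} [CommRing B] [IsLocalRing B] [CommRing A] [IsLocalRing A] (g : B →+* A) (t : B)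
  {M M' M₀ : Type u} [AddCommGroup M] [Module B M] [AddCommGroup M'] [Module A M'] [AddCommGroup M₀]
  (ρ : M →+ M') (ι₀ : M →+ M₀) (κ : M₀ →+ M)

/-- A small step of free modules. -/
structure Red : Prop where
  g_surj : Function.Surjective g
  g_loc : ∀ b, g b ∈ maximalIdeal A → b ∈ maximalIdeal B
  g_loc' : ∀ b ∈ maximalIdeal B, g b ∈ maximalIdeal A
  ker_g : RingHom.ker g = Ideal.span {t}
  t_mem : t ∈ maximalIdeal B
  mul_t : ∀ b ∈ maximalIdeal B, t * b = 0
  nilp : IsNilpotent (maximalIdeal A)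
  free : Module.Free B M
  ρ_smul : ∀ (b : B) y, ρ (b • y) = g b • ρ y
  ρ_surj : Function.Surjective ρ
  ker_ρ : ∀ y, ρ y = 0 → ∃ z, y = t • z
  ker_ι₀ : ∀ y, ι₀ y = 0 ↔ y ∈ maximalIdeal B • (⊤ : Submodule B M)
  ι₀_κ : ∀ a, ι₀ (κ a) = a
  inj_t : ∀ y, t • y = 0 → ι₀ y = 0

variable {g t ρ ι₀ κ}

theorem Red.t_smul_eq_zero (h : Red g t ρ ι₀ κ) {y : M} (hy : y ∈ maximalIdeal B • (⊤ : Submodule B M)) : t • y = 0 := by
  refine Submodule.smul_induction_on hy (fun b hb z _ => ?_) fun a b ha hb => ?_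
  · rw [smul_smul, h.mul_t b hb, zero_smul]
  · rw [smul_add, ha, hb, add_zero]

theorem Red.t_smul (h : Red g t ρ ι₀ κ) (y : M) : t • κ (ι₀ y) = t • y := by
  rw [← sub_eq_zero, ← smul_sub]
  refine h.t_smul_eq_zero ((h.ker_ι₀ _).1 ?_)
  rw [map_sub, h.ι₀_κ, sub_self]

theorem Red.ρ_t (h : Red g t ρ ι₀ κ) (y : M) : ρ (t • y) = 0 := by
  rw [h.ρ_smul, RingHom.mem_ker.1 (h.ker_g.ge (Ideal.mem_span_singleton_self t)), zero_smul]

theorem Red.ι₀_t (h : Red g t ρ ι₀ κ) (y : M) : ι₀ (t • y) = 0 :=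
  (h.ker_ι₀ _).2 (Submodule.smul_mem_smul h.t_mem Submodule.mem_top)

theorem Red.exists_e (h : Red g t ρ ι₀ κ) {y : M} (hy : ρ y = 0) : ∃ a, y = t • κ a := by
  obtain ⟨z, rfl⟩ := h.ker_ρ y hy
  exact ⟨ι₀ z, (h.t_smul z).symm⟩

theorem Red.κ_eq_zero (h : Red g t ρ ι₀ κ) {a : M₀} (ha : t • κ a = 0) : a = 0 := by
  rw [← h.ι₀_κ a, h.inj_t _ ha]

variable (g ρ) in
/-- The preimage of a submodule. -/
def pre (h : ∀ (b : B) y, ρ (b • y) = g b • ρ y) (J : Submodule A M') : Submodule B M where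
  carrier := {y | ρ y ∈ J}
  zero_mem' := by simp
  add_mem' ha hb := by simp only [Set.mem_setOf_eq, map_add] at *; exact add_mem ha hb
  smul_mem' b y hy := by simp only [Set.mem_setOf_eq, h] at *; exact J.smul_mem _ hy

theorem mem_pre {h : ∀ (b : B) y, ρ (b • y) = g b • ρ y} {J : Submodule A M'} {y : M} :
    y ∈ pre g ρ h J ↔ ρ y ∈ J := Iff.rfl

/-- A projection onto a submodule with flat quotient. -/
theorem exists_proj (hm : IsNilpotent (maximalIdeal A)) (J : Submodule A M') [Module.Flat A (M' ⧸ J)] :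
    ∃ π : M' →ₗ[A] M', (∀ y, π y ∈ J) ∧ ∀ y ∈ J, π y = y := by
  haveI := Hartogs3.free_of_flat hm (M' ⧸ J)
  obtain ⟨s, hs⟩ := Module.projective_lifting_property J.mkQ LinearMap.id (Submodule.mkQ_surjective J)
  refine ⟨LinearMap.id - s.comp J.mkQ, fun y => ?_, fun y hy => ?_⟩
  · rw [← Submodule.Quotient.mk_eq_zero]
    have := LinearMap.congr_fun hs (J.mkQ y)
    simpa [Submodule.Quotient.mk_sub, sub_eq_zero] using this.symm
  · have : J.mkQ y = 0 := by simpa [Submodule.Quotient.mk_eq_zero] using hy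
    simp [this, Submodule.Quotient.mk_eq_zero J |>.2 hy]

variable (h : Red g t ρ ι₀ κ) (J : Submodule A M') [Module.Flat A (M' ⧸ J)]

include h

/-- `mP ∩ tM = tI`. -/
theorem mem_image_of_smul_mem {a : M₀} (ha : t • κ a ∈ maximalIdeal B • pre g ρ h.ρ_smul J) :
    ∃ y, ρ y ∈ J ∧ ι₀ y = a := by
  obtain ⟨π, hπJ, hπ⟩ := exists_proj h.nilp J
  haveI := h.free
  let b := Module.Free.chooseBasis B M
  choose q hq using fun i => h.ρ_surj (π (ρ (b i)))
  let Φ : M →ₗ[B] M := b.constr B q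
  have hρΦ : ∀ y, ρ (Φ y) = π (ρ y) := by
    intro y
    induction b.mem_span y using Submodule.span_induction with
    | mem y hy =>
      obtain ⟨i, rfl⟩ := hy
      rw [Module.Basis.constr_basis]
      exact hq i
    | zero => simp
    | add x z _ _ hx hz => simp only [map_add, hx, hz]
    | smul c x _ hx => rw [map_smul, h.ρ_smul, hx, h.ρ_smul, map_smul]
  have hfix : ∀ z ∈ maximalIdeal B • pre g ρ h.ρ_smul J, Φ z = z := by
    intro z hz
    refine Submodule.smul_induction_on hz (fun c hc w hw => ?_) fun x y hx hy => by rw [map_add, hx, hy]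
    obtain ⟨a', ha'⟩ := h.exists_e (y := Φ w - w) (by rw [map_sub, hρΦ, hπ _ hw, sub_self])
    rw [map_smul, ← sub_eq_zero, ← smul_sub, ha', smul_smul, mul_comm, h.mul_t c hc, zero_smul]
  refine ⟨Φ (κ a), by rw [hρΦ]; exact hπJ _, ?_⟩
  have h2 : t • κ (ι₀ (Φ (κ a))) = t • κ a := by rw [h.t_smul, ← map_smul, hfix _ ha]
  rw [← sub_eq_zero]
  refine h.κ_eq_zero ?_
  rw [map_sub, smul_sub, h2, sub_self]

/-- Elements of the preimage vanishing on the special fibre. -/
theorem exists_decomp {y : M} (hy : ρ y ∈ J) (hy0 : ι₀ y = 0) :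
    ∃ a, y - t • κ a ∈ maximalIdeal B • pre g ρ h.ρ_smul J := by
  obtain ⟨π, hπJ, hπ⟩ := exists_proj h.nilp J
  have h1 : ∀ z ∈ maximalIdeal B • (⊤ : Submodule B M),
      ∃ w ∈ maximalIdeal B • pre g ρ h.ρ_smul J, π (ρ z) = ρ w := by
    intro z hz
    refine Submodule.smul_induction_on hz (fun c hc w _ => ?_) fun x z hx hz => ?_
    · obtain ⟨w', hw'⟩ := h.ρ_surj (π (ρ w))
      refine ⟨c • w', Submodule.smul_mem_smul hc (show ρ w' ∈ J from hw'.symm ▸ hπJ _), ?_⟩
      rw [h.ρ_smul, map_smul, h.ρ_smul, hw']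
    · obtain ⟨v, hv, hv'⟩ := hx
      obtain ⟨w, hw, hw'⟩ := hz
      exact ⟨v + w, add_mem hv hw, by rw [map_add, map_add, map_add, hv', hw']⟩
  obtain ⟨w, hw, hwy⟩ := h1 y ((h.ker_ι₀ y).1 hy0)
  rw [hπ _ hy] at hwy
  obtain ⟨a, ha⟩ := h.exists_e (y := y - w) (by rw [map_sub, hwy, sub_self])
  exact ⟨a, by rw [← ha, sub_sub_cancel]; exact hw⟩

/-- A submodule of the preimage surjecting to `J` and meeting `t M` in `t I` has flat quotient. -/
theorem flat_of_le (L : Submodule B M) (hL : ∀ y ∈ L, ρ y ∈ J)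
    (hsup : ∀ y, ρ y ∈ J → ∃ l ∈ L, ∃ z, y = l + t • z)
    (he : ∀ a, t • κ a ∈ L → ∃ y, ρ y ∈ J ∧ ι₀ y = a) : Module.Flat B (M ⧸ L) := by
  classical
  haveI := Hartogs3.free_of_flat h.nilp (M' ⧸ J)
  let b := Module.Free.chooseBasis A (M' ⧸ J)
  choose r' hr' using fun i => Submodule.mkQ_surjective J (b i)
  choose r hr using fun i => h.ρ_surj (r' i)
  let lc := Finsupp.linearCombination B r
  let gm : (Module.Free.ChooseBasisIndex A (M' ⧸ J) →₀ B) → (Module.Free.ChooseBasisIndex A (M' ⧸ J) →₀ A) :=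
    fun c => c.mapRange g (map_zero g)
  have hlc : ∀ c, J.mkQ (ρ (lc c)) = Finsupp.linearCombination A b (gm c) := by
    intro c
    induction c using Finsupp.induction_linear with
    | zero => simp [gm]
    | add c c' hc hc' =>
      rw [map_add, map_add, map_add, hc, hc']
      simp only [gm, Finsupp.mapRange_add (map_add g), map_add]
    | single i c =>
      simp only [lc, gm, Finsupp.mapRange_single, Finsupp.linearCombination_single, h.ρ_smul, map_smul, hr, hr']
  have hlift : ∀ y, ∃ c, ρ (y - lc c) ∈ J := fun y => by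
    obtain ⟨c, hc⟩ := Finsupp.mapRange_surjective g (map_zero g) h.g_surj (b.repr (J.mkQ (ρ y)))
    refine ⟨c, ?_⟩
    rw [← Submodule.Quotient.mk_eq_zero, ← Submodule.mkQ_apply, map_sub, map_sub, hlc,
      show gm c = b.repr (J.mkQ (ρ y)) from hc, b.linearCombination_repr, sub_self]
  have hker : ∀ c, ρ (lc c) ∈ J → ∀ i, g (c i) = 0 := fun c hc i => by
    have h0 : Finsupp.linearCombination A b (gm c) = 0 := by
      rw [← hlc, Submodule.mkQ_apply, Submodule.Quotient.mk_eq_zero]; exact hc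
    have := linearIndependent_iff.1 b.linearIndependent _ h0
    simpa [gm] using congrArg (fun d => d i) this
  have htdiv : ∀ z, g z = 0 → ∃ q, z = t * q := fun z hz => by
    obtain ⟨q, hq⟩ := Ideal.mem_span_singleton'.1 (h.ker_g.le (RingHom.mem_ker.2 hz))
    exact ⟨q, by rw [mul_comm, hq]⟩
  have hind : LinearIndependent B (fun i => L.mkQ (r i)) := by
    rw [linearIndependent_iff]
    intro c hc
    have hcL : lc c ∈ L := by
      rw [← Submodule.Quotient.mk_eq_zero, ← Submodule.mkQ_apply, Finsupp.apply_linearCombination]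
      exact hc
    choose q hq using fun i => htdiv _ (hker c (hL _ hcL) i)
    let d : Module.Free.ChooseBasisIndex A (M' ⧸ J) →₀ B :=
      Finsupp.onFinset c.support (fun i => if c i = 0 then 0 else q i) fun i hi => by
        rw [Finsupp.mem_support_iff]; by_contra h0; exact hi (if_pos h0)
    have hd : c = t • d := Finsupp.ext fun i => by
      rw [Finsupp.smul_apply, Finsupp.onFinset_apply, smul_eq_mul]
      by_cases h0 : c i = 0
      · rw [if_pos h0, h0, mul_zero]
      · rw [if_neg h0]; exact hq i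
    rw [hd, map_smul, ← h.t_smul] at hcL
    obtain ⟨w, hw, hw'⟩ := he _ hcL
    have hmS : ∀ z ∈ maximalIdeal B • (⊤ : Submodule B M), ∃ e, (∀ i, e i ∈ maximalIdeal B) ∧ ρ (z - lc e) ∈ J := by
      intro z hz
      refine Submodule.smul_induction_on hz (fun c hc y _ => ?_) fun x z hx hz => ?_
      · obtain ⟨e, he'⟩ := hlift y
        refine ⟨c • e, fun i => by simp [Ideal.mul_mem_right _ _ hc], ?_⟩
        rw [map_smul, ← smul_sub, h.ρ_smul]
        exact J.smul_mem _ he'
      · obtain ⟨e, h1, h2⟩ := hx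
        obtain ⟨e', h1', h2'⟩ := hz
        refine ⟨e + e', fun i => by simpa using add_mem (h1 i) (h1' i), ?_⟩
        rw [map_add, add_sub_add_comm, map_add]
        exact add_mem h2 h2'
    obtain ⟨e, he1, he2⟩ := hmS (lc d - w) ((h.ker_ι₀ _).1 (by rw [map_sub, hw', sub_self]))
    have h3 : ρ (lc (d - e)) ∈ J := by
      rw [show lc (d - e) = (lc d - w - lc e) + w by rw [map_sub]; abel, map_add]
      exact add_mem he2 hw
    refine hd ▸ Finsupp.ext fun i => ?_
    obtain ⟨v, hv⟩ := htdiv _ (hker _ h3 i)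
    rw [Finsupp.smul_apply, Finsupp.zero_apply, smul_eq_mul]
    refine h.mul_t _ ?_
    rw [show d i = t * v + e i by rw [← hv, Finsupp.sub_apply, sub_add_cancel]]
    exact add_mem (Ideal.mul_mem_right _ _ h.t_mem) (he1 i)
  have hspan : ⊤ ≤ Submodule.span B (Set.range fun i => L.mkQ (r i)) := by
    intro q _
    obtain ⟨y, rfl⟩ := Submodule.mkQ_surjective L q
    obtain ⟨c, hc⟩ := hlift y
    obtain ⟨l, hl, z, hz⟩ := hsup _ hc
    obtain ⟨c', hc'⟩ := hlift z
    obtain ⟨l', hl', z', hz'⟩ := hsup _ hc'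
    rw [← Finsupp.range_linearCombination]
    refine ⟨c + t • c', ?_⟩
    rw [show Finsupp.linearCombination B (fun i => L.mkQ (r i)) (c + t • c') = L.mkQ (lc (c + t • c')) from
      (Finsupp.apply_linearCombination B L.mkQ r _).symm, Submodule.mkQ_apply, Submodule.mkQ_apply,
      Submodule.Quotient.eq]
    have ht : t • (z - lc c') ∈ L := by
      rw [hz', smul_add, smul_smul, h.mul_t t h.t_mem, zero_smul, add_zero]
      exact L.smul_mem _ hl'
    rw [show lc (c + t • c') - y = -(l + t • (z - lc c')) by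
      rw [map_add, map_smul, smul_sub, show y = lc c + (l + t • z) by rw [← hz]; abel]; abel]
    exact neg_mem (add_mem hl ht)
  haveI : Module.Free B (M ⧸ L) := Module.Free.of_basis (Module.Basis.mk hind hspan)
  infer_instance

end Groth.Agent.QuotExt3
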