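import Groth.Agent.Lib.QuotExt3.Alg
import Groth.Agent.Lib.HilbRS3.Tangent
import Groth.Agent.Lib.ModLimH13.Sections
import Groth.Agent.Lib.ArtFun.Basic
import Groth.Agent.Lib.HilbPt3.Point
import Groth.Prelude.Def_FGA

/-!
# Sections over charts of the pullback of a module to `X × Spec A`
-/

set_option autoImplicit false
set_option linter.style.haveILetI false
set_option backward.isDefEq.respectTransparency.types false

universe u

open CategoryTheory CategoryTheory.Limits AlgebraicGeometry IsLocalRing TensorProduct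

namespace Groth.Agent.QuotExt3

open ArtFun ArtFun.Art HilbRS3 ModLimH13

variable {k : Type u} [Field k] {X : Scheme.{u}} (x : X ⟶ Art.specPt k) (E : X.Modules)

/-- The pullback of `E`. -/
noncomputable abbrev EA (A : Art k k) : (XA x A).Modules := FGA.ET x E (HilbPt3.TA A)

/-- Its sections over a chart. -/
noncomputable abbrev Sec (A : Art k k) (U : X.affineOpens) : Type u := Γ(EA x E A, (chart x A U).1)

noncomputable instance secModule (A : Art k k) (U : X.affineOpens) : Module A.carrier (Sec x E A U) :=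
  Module.compHom _ (cσ x A U)

theorem secModule_smul (A : Art k k) (U : X.affineOpens) (a : A.carrier) (y : Sec x E A U) :
    a • y = cσ x A U a • y := rfl

/-- The unit. -/
noncomputable def η (A : Art k k) (U : X.affineOpens) (s : Γ(E, U.1)) : Sec x E A U :=
  res' (pullback.fst x (HilbPt3.TA A).hom) E (W := U.1) (W' := (chart x A U).1) le_rfl s

variable {A B C : Art k k}

/-- Transition. -/
noncomputable def ρ (g : A ⟶ B) (U : X.affineOpens) : Sec x E A U →+ Sec x E B U :=
  AddMonoidHom.mk' (ModLimH13.trans (PicF.XTmap x (HilbPt3.mapHom g)) (pullback.fst x (HilbPt3.TA A).hom) E (FGA.XTmap_fst x (HilbPt3.mapHom g))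
    (preimage_chart x g U).ge) fun a b => trans_add _ _ _ _ _ a b

theorem η_add (U : X.affineOpens) (s t : Γ(E, U.1)) : η x E A U (s + t) = η x E A U s + η x E A U t :=
  res'_add _ _ _ s t

theorem η_smul (U : X.affineOpens) (r : Γ(X, U.1)) (s : Γ(E, U.1)) :
    η x E A U (r • s) = cι x A U r • η x E A U s := by
  refine (res'_smul (pullback.fst x (HilbPt3.TA A).hom) E (W := U.1) (W' := (chart x A U).1) le_rfl r s).trans ?_
  refine congrArg (fun z : Γ(XA x A, (chart x A U).1) => z • η x E A U s) ?_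
  exact congrArg (fun φ : Γ(X, U.1) ⟶ Γ(XA x A, (chart x A U).1) => φ.hom r) (Scheme.Hom.app_eq_appLE _).symm

theorem ρ_η (g : A ⟶ B) (U : X.affineOpens) (s : Γ(E, U.1)) : ρ x E g U (η x E A U s) = η x E B U s :=
  trans_res' (PicF.XTmap x (HilbPt3.mapHom g)) (pullback.fst x (HilbPt3.TA A).hom) E (FGA.XTmap_fst x (HilbPt3.mapHom g)) (W' := (chart x A U).1)
    (W'' := (chart x B U).1) (preimage_chart x g U).ge (W := U.1) le_rfl s

theorem ρ_smul' (g : A ⟶ B) (U : X.affineOpens) (c : Γ(XA x A, (chart x A U).1)) (y : Sec x E A U) :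
    ρ x E g U (c • y) = cπ x g U c • ρ x E g U y :=
  trans_smul (PicF.XTmap x (HilbPt3.mapHom g)) (pullback.fst x (HilbPt3.TA A).hom) E (FGA.XTmap_fst x (HilbPt3.mapHom g)) (W' := (chart x A U).1)
    (W'' := (chart x B U).1) (preimage_chart x g U).ge c y

theorem ρ_smul (g : A ⟶ B) (U : X.affineOpens) (a : A) (y : Sec x E A U) :
    ρ x E g U (a • y) = g.toAlgHom a • ρ x E g U y := by
  rw [secModule_smul, secModule_smul, ρ_smul', cπ_cσ]

theorem mres_ρ (g : A ⟶ B) {U W : X.affineOpens} (h : W.1 ≤ U.1)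
    (hA : (chart x A W).1 ≤ (chart x A U).1) (hB : (chart x B W).1 ≤ (chart x B U).1) (y : Sec x E A U) :
    M1.mres (EA x E B) hB (ρ x E g U y) = ρ x E g W (M1.mres (EA x E A) hA y) := by
  exact (mres_trans (PicF.XTmap x (HilbPt3.mapHom g)) (pullback.fst x (HilbPt3.TA A).hom) E (FGA.XTmap_fst x (HilbPt3.mapHom g)) (preimage_chart x g U).ge hB y).trans
    (trans_mres (PicF.XTmap x (HilbPt3.mapHom g)) (pullback.fst x (HilbPt3.TA A).hom) E (FGA.XTmap_fst x (HilbPt3.mapHom g)) hA (preimage_chart x g W).ge y).symm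

theorem η_mres {U W : X.affineOpens} (h : W.1 ≤ U.1) (hA : (chart x A W).1 ≤ (chart x A U).1) (s : Γ(E, U.1)) :
    M1.mres (EA x E A) hA (η x E A U s) = η x E A W (M1.mres E h s) := by
  refine (mres_res' (pullback.fst x (HilbPt3.TA A).hom) E le_rfl hA s).trans ?_
  exact (res'_mres (pullback.fst x (HilbPt3.TA A).hom) E h le_rfl s).symm

section qcoh

variable [Coh.IsQCoh E] (U : X.affineOpens)

theorem sec_induction {P : Sec x E A U → Prop} (h0 : P 0) (hadd : ∀ a b, P a → P b → P (a + b))
    (hη : ∀ (a : A) (s : Γ(E, U.1)), P (a • η x E A U s)) (y : Sec x E A U) : P y := by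
  refine pullback_induction (pullback.fst x (HilbPt3.TA A).hom) E (W := U.1) (W' := (chart x A U).1) le_rfl U.2
    (chart x A U).2 h0 hadd (fun c s => ?_) y
  show P (c • η x E A U s)
  have hgen : ∀ (a : A) (r : Γ(X, U.1)) (s : Γ(E, U.1)), P ((cσ x A U a * cι x A U r) • η x E A U s) := fun a r s => by
    rw [mul_smul, ← η_smul, ← secModule_smul]
    exact hη a _
  suffices H : ∀ s, P (c • η x E A U s) ∧ P ((-c) • η x E A U s) from (H s).1
  refine AddSubgroup.closure_induction (p := fun c _ => ∀ s, P (c • η x E A U s) ∧ P ((-c) • η x E A U s))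
    ?_ ?_ ?_ ?_ ((bc_base x A U).2.1 c)
  · rintro _ ⟨a, r, rfl⟩ s
    exact ⟨hgen a r s, by rw [← neg_mul, ← map_neg]; exact hgen _ r s⟩
  · intro s
    rw [neg_zero, zero_smul]
    exact ⟨h0, h0⟩
  · intro a b _ _ ha hb s
    rw [neg_add, add_smul, add_smul]
    exact ⟨hadd _ _ (ha s).1 (hb s).1, hadd _ _ (ha s).2 (hb s).2⟩
  · intro a _ ha s
    rw [neg_neg]
    exact ⟨(ha s).2, (ha s).1⟩

variable (g : A ⟶ B)

theorem sec_hom_ext {P : Type u} [AddCommGroup P] (f f' : Sec x E A U →+ P)
    (h : ∀ (a : A) (s : Γ(E, U.1)), f (a • η x E A U s) = f' (a • η x E A U s)) : f = f' :=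
  AddMonoidHom.ext fun y => by
    induction y using sec_induction x E U with
    | h0 => rw [map_zero, map_zero]
    | hadd a b ha hb => rw [map_add, map_add, ha, hb]
    | hη a s => exact h a s

theorem ρ_id : ρ x E (𝟙 A) U = AddMonoidHom.id _ :=
  sec_hom_ext x E U _ _ fun a s => by rw [ρ_smul, ρ_η]; rfl

theorem ρ_comp (h : B ⟶ C) (y : Sec x E A U) : ρ x E h U (ρ x E g U y) = ρ x E (g ≫ h) U y := by
  induction y using sec_induction x E U with
  | h0 => rw [map_zero, map_zero, map_zero]
  | hadd a b ha hb => rw [map_add, map_add, map_add, ha, hb]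
  | hη a s => rw [ρ_smul, ρ_η, ρ_smul, ρ_η, ρ_smul, ρ_η]; rfl

theorem ρ_surjective (hg : Function.Surjective g) : Function.Surjective (ρ x E g U) := by
  intro y
  induction y using sec_induction x E U with
  | h0 => exact ⟨0, map_zero _⟩
  | hadd a b ha hb =>
    obtain ⟨a', rfl⟩ := ha
    obtain ⟨b', rfl⟩ := hb
    exact ⟨a' + b', map_add _ _ _⟩
  | hη b s =>
    obtain ⟨a, rfl⟩ := hg b
    exact ⟨a • η x E A U s, by rw [ρ_smul, ρ_η]⟩

/-- Sections of `E` as a vector space. -/
@[reducible] noncomputable def kMod : Module k Γ(E, U.1) := Module.compHom _ (ThickAff3.str x U.1)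

/-- The functional on `Sec A U` of a functional on sections of `E`. -/
theorem exists_functional (l : Γ(E, U.1) →+ k) (hl : ∀ (c : k) s, l (ThickAff3.str x U.1 c • s) = c * l s) :
    ∃ L : Sec x E A U →+ A.carrier, ∀ (a : A) (s : Γ(E, U.1)), L (a • η x E A U s) = a * algebraMap k A (l s) := by
  have hls : ∀ s : Γ(E, U.1), ∃ l' : Γ(XA x A, (chart x A U).1) →+ A.carrier,
      (∀ a y, l' (cσ x A U a * y) = a * l' y) ∧ ∀ r, l' (cι x A U r) = algebraMap k A (l (r • s)) := fun s => by
    obtain ⟨l', h1, h2⟩ := (bc_base x A U).2.2 (AddMonoidHom.mk' (fun r => l (r • s)) fun r r' => by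
      rw [add_smul, map_add]) (fun c r => by
        show l ((ThickAff3.str x U.1 c * r) • s) = c * l (r • s)
        rw [mul_smul, hl])
    exact ⟨l', h1, h2⟩
  choose l' hl1 hl2 using hls
  have hext : ∀ f f' : Γ(XA x A, (chart x A U).1) →+ A.carrier,
      (∀ a r, f (cσ x A U a * cι x A U r) = f' (cσ x A U a * cι x A U r)) → f = f' := fun f f' hf =>
    AddMonoidHom.ext fun y => AddSubgroup.closure_induction (p := fun y _ => f y = f' y)
      (by rintro _ ⟨a, r, rfl⟩; exact hf a r) (by simp) (fun a b _ _ ha hb => by simp [ha, hb])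
      (fun a _ ha => by simp [ha]) ((bc_base x A U).2.1 y)
  have e : (chart x A U).1 ≤ pullback.fst x (HilbPt3.TA A).hom ⁻¹ᵁ U.1 := le_rfl
  letI : Algebra Γ(X, U.1) Γ(XA x A, (chart x A U).1) :=
    ((pullback.fst x (HilbPt3.TA A).hom).appLE U.1 (chart x A U).1 e).hom.toAlgebra
  letI : Algebra Γ(X, U.1) Γ(pullback x (HilbPt3.TA A).hom, (chart x A U).1) :=
    ((pullback.fst x (HilbPt3.TA A).hom).appLE U.1 (chart x A U).1 e).hom.toAlgebra
  obtain ⟨Φ, hΦ⟩ := exists_pullEquiv (pullback.fst x (HilbPt3.TA A).hom) E e U.2 (chart x A U).2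
  let l2 : Γ(XA x A, (chart x A U).1) →+ Γ(E, U.1) →+ A.carrier :=
    AddMonoidHom.mk' (fun c => AddMonoidHom.mk' (fun s => l' s c) fun s s' =>
        DFunLike.congr_fun (hext (l' (s + s')) (l' s + l' s') fun a r => by
          rw [AddMonoidHom.add_apply, hl1, hl1, hl1, hl2, hl2, hl2, smul_add, map_add, map_add, mul_add]) c)
      fun c c' => AddMonoidHom.ext fun s => map_add (l' s) c c'
  let F : TensorProduct Γ(X, U.1) Γ(XA x A, (chart x A U).1) Γ(E, U.1) →+ A.carrier :=
    TensorProduct.liftAddHom l2 fun r c s => by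
      have := DFunLike.congr_fun (hext ((l' s).comp (AddMonoidHom.mulLeft (cι x A U r))) (l' (r • s)) fun a r' => by
        show l' s (cι x A U r * (cσ x A U a * cι x A U r')) = l' (r • s) (cσ x A U a * cι x A U r')
        rw [mul_left_comm, ← map_mul, hl1, hl1, hl2, hl2, mul_comm r r', mul_smul]) c
      refine Eq.trans ?_ this
      show l' s (r • c) = l' s (cι x A U r * c)
      refine congrArg (l' s) ?_
      rw [Algebra.smul_def]
      refine congrArg (· * c) ?_
      exact congrArg (fun φ : Γ(X, U.1) ⟶ Γ(XA x A, (chart x A U).1) => φ.hom r) (Scheme.Hom.app_eq_appLE _).symm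
  refine ⟨F.comp Φ.symm.toAddEquiv.toAddMonoidHom, fun a s => ?_⟩
  show F (Φ.symm (cσ x A U a • η x E A U s)) = _
  rw [show cσ x A U a • η x E A U s = Φ (cσ x A U a ⊗ₜ s) from (hΦ _ _).symm, Φ.symm_apply_apply]
  show l' s (cσ x A U a) = _
  rw [← mul_one (cσ x A U a), ← map_one (cι x A U), hl1, hl2, one_smul]

/-- The basis of `Sec A U` of a basis of the sections of `E`. -/
theorem exists_basis_η {ι : Type u} (b : letI := kMod x E U; Module.Basis ι k Γ(E, U.1)) :
    ∃ v : Module.Basis ι A.carrier (Sec x E A U), ∀ i, v i = η x E A U (letI := kMod x E U; b i) := by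
  classical
  letI := kMod x E U
  have hη : ∀ (c : k) (s : Γ(E, U.1)), η x E A U (c • s) = algebraMap k A c • η x E A U s := fun c s => by
    rw [show c • s = ThickAff3.str x U.1 c • s from rfl, η_smul, secModule_smul, cι_str]
  have hind : LinearIndependent A.carrier (fun i => η x E A U (b i)) := by
    rw [linearIndependent_iff]
    intro c hc
    refine Finsupp.ext fun j => ?_
    obtain ⟨L, hL⟩ := exists_functional x E (A := A) U (b.coord j).toAddMonoidHom (fun c s => map_smul (b.coord j) c s)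
    have := congrArg L hc
    rw [map_zero, Finsupp.linearCombination_apply, Finsupp.sum, map_sum] at this
    simp only [hL, LinearMap.toAddMonoidHom_coe, Module.Basis.coord_apply, Module.Basis.repr_self,
      Finsupp.single_apply] at this
    simpa [apply_ite, mul_ite] using this
  refine ⟨Module.Basis.mk hind fun y hy => ?_, fun i => Module.Basis.mk_apply _ _ i⟩
  clear hy
  induction y using sec_induction x E U with
  | h0 => exact zero_mem _
  | hadd a c ha hc => exact add_mem ha hc
  | hη a s =>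
    refine Submodule.smul_mem _ _ ?_
    induction b.mem_span s using Submodule.span_induction with
    | mem s hs =>
      obtain ⟨i, rfl⟩ := hs
      exact Submodule.subset_span ⟨i, rfl⟩
    | zero =>
      rw [← zero_smul k (0 : Γ(E, U.1)), hη, map_zero, zero_smul]
      exact zero_mem _
    | add s s' _ _ hs hs' => rw [η_add]; exact add_mem hs hs'
    | smul c s _ hs => rw [hη]; exact Submodule.smul_mem _ _ hs

theorem free_sec : Module.Free A.carrier (Sec x E A U) := by
  letI := kMod x E U
  obtain ⟨v, -⟩ := exists_basis_η x E U (A := A) (Module.Free.chooseBasis k Γ(E, U.1))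
  exact Module.Free.of_basis v

/-- The kernel of a transition is spanned by the kernel of the ring map. -/
theorem mem_smul_of_ρ_eq_zero {y : Sec x E A U} (hy : ρ x E g U y = 0) :
    y ∈ RingHom.ker g.toAlgHom • (⊤ : Submodule A.carrier (Sec x E A U)) := by
  letI := kMod x E U
  obtain ⟨v, hv⟩ := exists_basis_η x E U (A := A) (Module.Free.chooseBasis k Γ(E, U.1))
  obtain ⟨w, hw⟩ := exists_basis_η x E U (A := B) (Module.Free.chooseBasis k Γ(E, U.1))
  have h1 : ∀ c, ρ x E g U (Finsupp.linearCombination A.carrier v c) =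
      Finsupp.linearCombination B.carrier w (c.mapRange g.toAlgHom (map_zero _)) := by
    intro c
    induction c using Finsupp.induction_linear with
    | zero => rw [map_zero, map_zero, Finsupp.mapRange_zero, map_zero]
    | add c c' hc hc' => rw [map_add, map_add, hc, hc', Finsupp.mapRange_add (map_add g.toAlgHom), map_add]
    | single i a =>
      rw [Finsupp.mapRange_single, Finsupp.linearCombination_single, Finsupp.linearCombination_single, ρ_smul, hv, hw,
        ρ_η]
  rw [← v.linearCombination_repr y] at hy ⊢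
  rw [h1] at hy
  have h2 := linearIndependent_iff.1 w.linearIndependent _ hy
  rw [Finsupp.linearCombination_apply]
  refine sum_mem fun i _ => Submodule.smul_mem_smul (RingHom.mem_ker.2 ?_) Submodule.mem_top
  simpa using congrArg (fun d => d i) h2

theorem ρ_eq_zero_of_mem {y : Sec x E A U}
    (hy : y ∈ RingHom.ker g.toAlgHom • (⊤ : Submodule A.carrier (Sec x E A U))) : ρ x E g U y = 0 := by
  refine Submodule.smul_induction_on hy (fun a ha z _ => ?_) fun a b ha hb => by rw [map_add, ha, hb, add_zero]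
  rw [ρ_smul, RingHom.mem_ker.1 ha, zero_smul]

omit [Coh.IsQCoh E] in
theorem ofBase_toBase (A : Art k k) : ofBase A ≫ toBase A = 𝟙 (base k k) :=
  Art.hom_ext (AlgHom.ext fun c => (toBase A).toAlgHom.commutes ((algebraMap k k) c) |>.trans rfl)

theorem ker_toBase (A : Art k k) : RingHom.ker (toBase A).toAlgHom = maximalIdeal A.carrier :=
  Ideal.ext fun a => RingHom.mem_ker.trans (A.mem_maximalIdeal_iff a).symm

/-- The step of a small extension on a chart. -/
theorem red (p : B ⟶ A) (hp : IsSmallExt p) {t : B.carrier} (ht : RingHom.ker p.toAlgHom = Ideal.span {t}) :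
    Red p.toAlgHom.toRingHom t (ρ x E p U) (ρ x E (toBase B) U) (ρ x E (ofBase B) U) where
  g_surj := hp.1
  g_loc b hb := by
    rw [B.mem_maximalIdeal_iff, ← AlgHom.congr_fun p.res_comp b]
    exact (A.mem_maximalIdeal_iff _).1 hb
  g_loc' b hb := by
    rw [A.mem_maximalIdeal_iff]
    exact (AlgHom.congr_fun p.res_comp b).trans ((B.mem_maximalIdeal_iff _).1 hb)
  ker_g := ht
  t_mem := ArtFunLib.ker_le p (ht.symm ▸ Ideal.mem_span_singleton_self t)
  mul_t b hb := by
    have h := Ideal.mul_mem_mul hb (show t ∈ RingHom.ker p.toAlgHom from ht.symm ▸ Ideal.mem_span_singleton_self t)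
    rw [hp.2.2.2, Ideal.mem_bot] at h
    rw [mul_comm]; exact h
  nilp := by rw [← IsLocalRing.jacobson_eq_maximalIdeal ⊥ bot_ne_top]; exact IsArtinianRing.isNilpotent_jacobson_bot
  free := free_sec x E U
  ρ_smul b y := ρ_smul x E p U b y
  ρ_surj := ρ_surjective x E U p hp.1
  ker_ρ y hy := by
    have h := mem_smul_of_ρ_eq_zero x E U p hy
    rw [ht, Submodule.ideal_span_singleton_smul] at h
    obtain ⟨z, -, hz⟩ := (Submodule.mem_smul_pointwise_iff_exists _ _ _).1 h
    exact ⟨z, hz.symm⟩
  ker_ι₀ y := by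
    rw [← ker_toBase B]
    exact ⟨mem_smul_of_ρ_eq_zero x E U _, ρ_eq_zero_of_mem x E U _⟩
  ι₀_κ a := by
    rw [ρ_comp, ofBase_toBase]
    exact DFunLike.congr_fun (ρ_id x E U) a
  inj_t y hy := by
    letI := kMod x E U
    obtain ⟨v, hv⟩ := exists_basis_η x E U (A := B) (Module.Free.chooseBasis k Γ(E, U.1))
    refine ρ_eq_zero_of_mem x E U _ ?_
    rw [ker_toBase, ← v.linearCombination_repr y, Finsupp.linearCombination_apply]
    refine sum_mem fun i _ => Submodule.smul_mem_smul ?_ Submodule.mem_top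
    have := congrArg (fun z => v.repr z i) hy
    simp only [map_smul, Finsupp.smul_apply, smul_eq_mul, map_zero, Finsupp.zero_apply] at this
    by_contra hu
    obtain ⟨w, hw⟩ := (not_not.1 ((not_congr (mem_maximalIdeal (v.repr y i))).1 hu) : IsUnit _)
    exact hp.2.1 (by rw [ht, (IsUnit.mul_left_eq_zero ⟨w, hw⟩).1 this]; simp)

end qcoh

end Groth.Agent.QuotExt3
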