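import Groth.Agent.Lib.QuotExt3.Chart
import Groth.Agent.Lib.SepMod5.FlatBase
import Groth.Agent.Lib.HilbRS3.Surj
import Groth.Agent.Lib.KoszShH13.Glue
import Groth.Agent.Lib.FlatSyz.ProjDim

/-!
# Members of the Quot functor through their sections over charts
-/

set_option autoImplicit false
set_option linter.style.haveILetI false
set_option backward.isDefEq.respectTransparency.types false

universe u

open CategoryTheory CategoryTheory.Limits AlgebraicGeometry IsLocalRing

namespace Groth.Agent.QuotExt3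

theorem app_trans_app {C D : Type (u+1)} [Category.{u} C] [Category.{u} D] {F G H : C ⥤ D} (a : F ≅ G) (b : G ≅ H)
    (M : C) : (a.app M ≪≫ b.app M).hom = (a ≪≫ b).hom.app M := rfl

theorem etiso_hom {X S : Scheme.{u}} (f : X ⟶ S) (E : X.Modules) {T T' : Over S} (g : T' ⟶ T) :
    (FGA.ETiso f E g).hom =
      (ModLimH13.cmp (PicF.XTmap f g) (pullback.fst f T.hom) (FGA.XTmap_fst f g)).hom.app E :=
  app_trans_app (Scheme.Modules.pullbackComp (PicF.XTmap f g) (pullback.fst f T.hom))
    (Scheme.Modules.pullbackCongr (FGA.XTmap_fst f g)) E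

theorem app_res_aux {W Z : Scheme.{u}} (p : W ⟶ Z) {K₁ N : Z.Modules} {N' : W.Modules} (φ : K₁ ⟶ N)
    (ψ : (Scheme.Modules.pullback p).obj N ⟶ N') {V : Z.Opens} {V' : W.Opens} (e : V' ≤ p ⁻¹ᵁ V) (z : Γ(K₁, V)) :
    ((Scheme.Modules.pullback p).map φ ≫ ψ).app V' (ModLimH13.res' p K₁ e z) =
      ψ.app V' (ModLimH13.res' p N e (φ.app V z)) := by
  rw [← ModLimH13.map_res' p K₁ e φ z]
  rfl

theorem cmp_app_res' {W Z Y : Scheme.{u}} (p : W ⟶ Z) (g : Z ⟶ Y) (M : Y.Modules) {h : W ⟶ Y} (w : p ≫ g = h)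
    (ψ : (Scheme.Modules.pullback p).obj ((Scheme.Modules.pullback g).obj M) ⟶ (Scheme.Modules.pullback h).obj M)
    (hψ : ψ = (ModLimH13.cmp p g w).hom.app M)
    {V : Z.Opens} {V' : W.Opens} (e : V' ≤ p ⁻¹ᵁ V) (y : Γ((Scheme.Modules.pullback g).obj M, V)) :
    ψ.app V' (ModLimH13.res' p _ e y) = ModLimH13.trans p g M w e y := by
  subst hψ
  rfl

/- The comparison is kept as a variable: the kernel is slow on the specialised statement. -/
theorem pullMap_res' {X S : Scheme.{u}} (f : X ⟶ S) (E : X.Modules) {T T' : Over S} (g : T' ⟶ T)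
    (ψ : (Scheme.Modules.pullback (PicF.XTmap f g)).obj (FGA.ET f E T) ⟶ FGA.ET f E T')
    (hψ : ψ = (ModLimH13.cmp (PicF.XTmap f g) (pullback.fst f T.hom) (FGA.XTmap_fst f g)).hom.app E)
    (K₁ : (PicF.XT f T).Modules) (φ : K₁ ⟶ FGA.ET f E T) {V : (PicF.XT f T).Opens} {V' : (PicF.XT f T').Opens}
    (e : V' ≤ PicF.XTmap f g ⁻¹ᵁ V) (z : Γ(K₁, V)) :
    ((Scheme.Modules.pullback (PicF.XTmap f g)).map φ ≫ ψ).app V'
        (ModLimH13.res' (PicF.XTmap f g) K₁ e z) =
      ModLimH13.trans (PicF.XTmap f g) (pullback.fst f T.hom) E (FGA.XTmap_fst f g) e (φ.app V z) :=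
  (app_res_aux (PicF.XTmap f g) φ ψ e z).trans
    (cmp_app_res' (PicF.XTmap f g) (pullback.fst f T.hom) E (FGA.XTmap_fst f g) ψ hψ e (φ.app V z))

section general

variable {Z : Scheme.{u}} {P N : Z.Modules}

theorem comp_app_apply {M N L : Z.Modules} (a : M ⟶ N) (b : N ⟶ L) (V : Z.Opens) (z : Γ(M, V)) :
    (a ≫ b).app V z = b.app V (a.app V z) := rfl

theorem trans_eq {W Y : Scheme.{u}} (p : W ⟶ Z) (g : Z ⟶ Y) (M : Y.Modules) {h : W ⟶ Y} (w : p ≫ g = h)
    {V : Z.Opens} {V' : W.Opens} (e : V' ≤ p ⁻¹ᵁ V) (z : Γ((Scheme.Modules.pullback g).obj M, V)) :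
    ((ModLimH13.cmp p g w).hom.app M).app V' (ModLimH13.res' p _ e z) = ModLimH13.trans p g M w e z := rfl

theorem isQCoh_image {f : P ⟶ N} (hP : Coh.IsQCoh P) (hN : Coh.IsQCoh N) :
    Coh.IsQCoh (kernel (factorThruImageSubobject f)) :=
  M1.isQCoh_of_isIso ((kernelCompMono (factorThruImageSubobject f) (imageSubobject f).arrow).symm ≪≫
    eqToIso (by congr 1; exact imageSubobject_arrow_comp f)).symm (M1.isQCoh_kernel hP hN f)

/-- Sections of the image over an affine open. -/
theorem range_imageSubobject (f : P ⟶ N) (hP : Coh.IsQCoh P) (hN : Coh.IsQCoh N) (V : Z.affineOpens) :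
    Set.range ((imageSubobject f).arrow.app V.1) = Set.range (f.app V.1) := by
  haveI : Epi (factorThruImageSubobject f) := inferInstance
  have hs := M1.app_surjective_affine (factorThruImageSubobject f) (isQCoh_image hP hN) V.2
  ext y
  constructor
  · rintro ⟨z, rfl⟩
    obtain ⟨w, rfl⟩ := hs z
    exact ⟨w, (congrArg (fun φ => φ.app V.1 w) (imageSubobject_arrow_comp f)).symm⟩
  · rintro ⟨w, rfl⟩
    exact ⟨(factorThruImageSubobject f).app V.1 w, congrArg (fun φ => φ.app V.1 w) (imageSubobject_arrow_comp f)⟩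

theorem le_of_range (K K' : Subobject N)
    (h : ∀ V : Z.affineOpens, Set.range (K.arrow.app V.1) ⊆ Set.range (K'.arrow.app V.1)) : K ≤ K' := by
  have h0 : K.arrow ≫ cokernel.π K'.arrow = 0 := KoszShH13.hom_ext_basis KoszShH13.isAffBasis_top fun V _ m => by
    obtain ⟨z, hz⟩ := h V ⟨m, rfl⟩
    show (cokernel.π K'.arrow).app V.1 (K.arrow.app V.1 m) = 0
    rw [← hz]
    exact congrArg (fun φ => φ.app V.1 z) (cokernel.condition K'.arrow)
  exact Subobject.le_of_comm (Abelian.monoLift K'.arrow K.arrow h0) (Abelian.monoLift_comp _ _ _)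

theorem eq_of_range (K K' : Subobject N)
    (h : ∀ V : Z.affineOpens, Set.range (K.arrow.app V.1) = Set.range (K'.arrow.app V.1)) : K = K' :=
  le_antisymm (le_of_range K K' fun V => (h V).le) (le_of_range K' K fun V => (h V).ge)

theorem isQCoh_underlying (K : Subobject N) (hN : Coh.IsQCoh N) (hQ : Coh.IsQCoh (cokernel K.arrow)) :
    Coh.IsQCoh (Subobject.underlying.obj K) :=
  M1.isQCoh_of_isIso ((Abelian.monoIsKernelOfCokernel _ (cokernelIsCokernel K.arrow)).conePointUniqueUpToIso
    (kernelIsKernel (cokernel.π K.arrow))).symm (M1.isQCoh_kernel hN hQ _)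

theorem π_app_eq_zero_iff (K : Subobject N) (V : Z.Opens) (y : Γ(N, V)) :
    (cokernel.π K.arrow).app V y = 0 ↔ y ∈ Set.range (K.arrow.app V) := by
  constructor
  · intro h
    exact M1.sections_exact (S := ShortComplex.mk K.arrow (cokernel.π K.arrow) (cokernel.condition _))
      (ShortComplex.exact_of_g_is_cokernel _ (cokernelIsCokernel _)) V y h
  · rintro ⟨z, rfl⟩
    exact congrArg (fun φ => φ.app V z) (cokernel.condition K.arrow)

theorem π_app_surjective (K : Subobject N) (hN : Coh.IsQCoh N) (hQ : Coh.IsQCoh (cokernel K.arrow))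
    (V : Z.affineOpens) : Function.Surjective ((cokernel.π K.arrow).app V.1) :=
  M1.app_surjective_affine_of_isQCoh hN hQ _ V.2

end general

open ArtFun ArtFun.Art HilbRS3 ModLimH13 HilbPt3

variable {k : Type u} [Field k] {X : Scheme.{u}} (x : X ⟶ Art.specPt k) (E : X.Modules)

variable {x E} {A B : Art k k}

/-- The sections of a subobject over a chart. -/
noncomputable def rng (K : Subobject (EA x E A)) (U : X.affineOpens) : Submodule A.carrier (Sec x E A U) where
  carrier := Set.range (K.arrow.app (chart x A U).1)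
  zero_mem' := ⟨0, map_zero _⟩
  add_mem' := by
    rintro _ _ ⟨a, rfl⟩ ⟨b, rfl⟩
    exact ⟨a + b, map_add _ _ _⟩
  smul_mem' := by
    rintro c _ ⟨a, rfl⟩
    exact ⟨cσ x A U c • a, Scheme.Modules.Hom.app_smul _ _ _⟩

theorem mem_rng {K : Subobject (EA x E A)} {U : X.affineOpens} {y : Sec x E A U} :
    y ∈ rng K U ↔ ∃ z, K.arrow.app (chart x A U).1 z = y := Iff.rfl

theorem rng_smul {K : Subobject (EA x E A)} {U : X.affineOpens} (c : Γ(XA x A, (chart x A U).1)) {y : Sec x E A U}
    (hy : y ∈ rng K U) : c • y ∈ rng K U := by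
  obtain ⟨z, rfl⟩ := hy
  exact ⟨c • z, Scheme.Modules.Hom.app_smul _ _ _⟩

theorem eq_of_rng (K K' : Subobject (EA x E A)) (h : ∀ U, rng K U = rng K' U) : K = K' := by
  refine eq_of_range K K' fun V => ?_
  obtain ⟨U, -, hU⟩ := exists_chart_eq x A V
  obtain rfl : chart x A U = V := Subtype.ext hU
  exact congrArg (fun L : Submodule A.carrier (Sec x E A U) => (L : Set (Sec x E A U))) (h U)

variable [Coh.IsQCoh E]

theorem isQCoh_EA (A : Art k k) : Coh.IsQCoh (EA x E A) := M1.isQCoh_pullback _ inferInstance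

theorem rng_quotPull_aux (g : A ⟶ B) (hg : Function.Surjective g) (K : Subobject (EA x E A))
    (hK : Coh.IsQCoh (cokernel K.arrow))
    (ψ : (Scheme.Modules.pullback (PicF.XTmap x (mapHom g))).obj (EA x E A) ⟶ EA x E B)
    (hψ : ψ = (ModLimH13.cmp (PicF.XTmap x (mapHom g)) (pullback.fst x (TA A).hom)
      (FGA.XTmap_fst x (mapHom g))).hom.app E) (U : X.affineOpens) :
    (rng (imageSubobject ((Scheme.Modules.pullback (PicF.XTmap x (mapHom g))).map K.arrow ≫ ψ)) U :
      Set (Sec x E B U)) = ρ x E g U '' rng K U := by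
  haveI : Coh.IsQCoh (Subobject.underlying.obj K) := isQCoh_underlying K (isQCoh_EA A) hK
  have e : (chart x B U).1 ≤ PicF.XTmap x (mapHom g) ⁻¹ᵁ (chart x A U).1 := (preimage_chart x g U).ge
  generalize hFd : (Scheme.Modules.pullback (PicF.XTmap x (mapHom g))).map K.arrow ≫ ψ = F
  have hF : ∀ (z : Γ(Subobject.underlying.obj K, (chart x A U).1)),
      F.app (chart x B U).1 (res' (PicF.XTmap x (mapHom g)) _ e z) =
        ρ x E g U (K.arrow.app (chart x A U).1 z) := fun z => by
    rw [← hFd]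
    exact pullMap_res' x E (mapHom g) ψ hψ _ K.arrow e z
  have hs : Function.Surjective (cπ x g U) := (HilbRS3.bc x g U).surjective hg
  show Set.range ((imageSubobject F).arrow.app (chart x B U).1) = _
  rw [range_imageSubobject F (M1.isQCoh_pullback _ inferInstance) (isQCoh_EA B) (chart x B U)]
  ext y
  constructor
  · rintro ⟨t, rfl⟩
    induction t using pullback_induction (PicF.XTmap x (mapHom g)) (Subobject.underlying.obj K) e (chart x A U).2 (chart x B U).2 with
    | h0 => exact ⟨0, zero_mem _, by rw [map_zero]; exact (map_zero _).symm⟩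
    | hadd a b ha hb =>
      obtain ⟨a', ha', ha⟩ := ha
      obtain ⟨b', hb', hb⟩ := hb
      exact ⟨a' + b', add_mem ha' hb', by rw [map_add, ha, hb]; exact (map_add _ _ _).symm⟩
    | hres c z =>
      obtain ⟨c', rfl⟩ := hs c
      refine ⟨c' • K.arrow.app _ z, rng_smul c' ⟨z, rfl⟩, ?_⟩
      exact (ρ_smul' x E g U c' _).trans ((congrArg _ (hF z).symm).trans (Scheme.Modules.Hom.app_smul F _ _).symm)
  · rintro ⟨_, ⟨z, rfl⟩, rfl⟩
    exact ⟨_, hF z⟩

/-- The pullback along a surjection has the images as sections. -/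
theorem rng_quotPull (g : A ⟶ B) (hg : Function.Surjective g) (K : FGA.QuotSet x E (TA A)) (U : X.affineOpens) :
    (rng (x := x) (E := E) (FGA.quotPull x E (mapHom g) K.1) U : Set (Sec x E B U)) = ρ x E g U '' rng K.1 U :=
  rng_quotPull_aux g hg K.1 K.2.1.1 (FGA.ETiso x E (mapHom g)).hom (etiso_hom x E (mapHom g)) U

/-- Images of sections of `K` are sections of its pullback, along any transition. -/
theorem mem_rng_quotPull_of_mem (g : A ⟶ B) (K : FGA.QuotSet x E (TA A)) {L : Subobject (EA x E B)}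
    (hL : FGA.quotPull x E (mapHom g) K.1 = L) (U : X.affineOpens) {y : Sec x E A U} (hy : y ∈ rng K.1 U) :
    ρ x E g U y ∈ rng L U := by
  subst hL
  have aux : ∀ (ψ : (Scheme.Modules.pullback (PicF.XTmap x (mapHom g))).obj (EA x E A) ⟶ EA x E B),
      ψ = (ModLimH13.cmp (PicF.XTmap x (mapHom g)) (pullback.fst x (TA A).hom)
        (FGA.XTmap_fst x (mapHom g))).hom.app E → ∀ (K' : Subobject (EA x E A)), Coh.IsQCoh (cokernel K'.arrow) →
      ∀ z, ρ x E g U (K'.arrow.app (chart x A U).1 z) ∈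
        rng (imageSubobject ((Scheme.Modules.pullback (PicF.XTmap x (mapHom g))).map K'.arrow ≫ ψ)) U := by
    intro ψ hψ K' hK' z
    haveI : Coh.IsQCoh (Subobject.underlying.obj K') := isQCoh_underlying K' (isQCoh_EA A) hK'
    have e : (chart x B U).1 ≤ PicF.XTmap x (mapHom g) ⁻¹ᵁ (chart x A U).1 := (preimage_chart x g U).ge
    generalize hFd : (Scheme.Modules.pullback (PicF.XTmap x (mapHom g))).map K'.arrow ≫ ψ = F
    show _ ∈ Set.range ((imageSubobject F).arrow.app (chart x B U).1)
    rw [range_imageSubobject F (M1.isQCoh_pullback _ inferInstance) (isQCoh_EA B) (chart x B U)]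
    refine ⟨res' (PicF.XTmap x (mapHom g)) _ e z, ?_⟩
    rw [← hFd]
    exact pullMap_res' x E (mapHom g) ψ hψ _ K'.arrow e z
  obtain ⟨z, rfl⟩ := mem_rng.1 hy
  exact aux (FGA.ETiso x E (mapHom g)).hom (etiso_hom x E (mapHom g)) K.1 K.2.1.1 z

omit [Coh.IsQCoh E] in
/-- The quotient of the sections is the sections of the quotient. -/
theorem rng_flat_equiv (K : Subobject (EA x E A)) (U : X.affineOpens)
    (hs : Function.Surjective ((cokernel.π K.arrow).app (chart x A U).1)) :
    letI : Module A.carrier Γ(cokernel K.arrow, (chart x A U).1) := Module.compHom _ (cσ x A U)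
    Nonempty ((Sec x E A U ⧸ rng K U) ≃ₗ[A.carrier] Γ(cokernel K.arrow, (chart x A U).1)) := by
  letI : Module A.carrier Γ(cokernel K.arrow, (chart x A U).1) := Module.compHom _ (cσ x A U)
  let π : Sec x E A U →ₗ[A.carrier] Γ(cokernel K.arrow, (chart x A U).1) :=
    { toFun := fun y => (cokernel.π K.arrow).app (chart x A U).1 y
      map_add' := fun a b => map_add _ a b
      map_smul' := fun c y => Scheme.Modules.Hom.app_smul _ _ _ }
  have hker : LinearMap.ker π = rng K U := Submodule.ext fun y =>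
    LinearMap.mem_ker.trans (π_app_eq_zero_iff K _ y)
  exact ⟨(Submodule.quotEquivOfEq _ _ hker.symm).trans (π.quotKerEquivOfSurjective hs)⟩

/-- The sections of a flat quotient are flat. -/
theorem flat_rng (K : FGA.QuotSet x E (TA A)) (U : X.affineOpens) : Module.Flat A.carrier (Sec x E A U ⧸ rng (x := x) (E := E) K.1 U) := by
  haveI : Coh.IsQCoh (cokernel K.1.arrow) := K.2.1.1
  obtain ⟨e⟩ := rng_flat_equiv (x := x) (E := E) K.1 U (π_app_surjective K.1 (isQCoh_EA A) K.2.1.1 (chart x A U))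
  have hW := (chart x A U).2
  letI : Module A.carrier Γ(cokernel K.1.arrow, (chart x A U).1) := Module.compHom _ (cσ x A U)
  haveI : Module.Flat A.carrier Γ(cokernel K.1.arrow, (chart x A U).1) := by
    have h := SepMod5.flat_sections_base (k := CommRingCat.of A.carrier) (XApr x A) (cokernel K.1.arrow) K.2.2 hW
    have hc : cσ x A U = (SepMod5.baseMap (XApr x A) hW).hom := by rw [SepMod5.baseMap_eq]; rfl
    show @Module.Flat A.carrier Γ(cokernel K.1.arrow, (chart x A U).1) _ _ (Module.compHom _ (cσ x A U))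
    rw [hc]
    exact h
  exact Module.Flat.of_linearEquiv e

/-- A subobject with flat quotients of sections. -/
theorem isFlatOver_of_rng (K : Subobject (EA x E A)) (hQ : Coh.IsQCoh (cokernel K.arrow))
    (h : ∀ U, Module.Flat A.carrier (Sec x E A U ⧸ rng K U)) : FlatMod.IsFlatOver (XApr x A) (cokernel K.arrow) := by
  intro z
  obtain ⟨V, -, hzV, -⟩ := KoszShH13.isAffBasis_top (X := XA x A) ⊤ z trivial
  obtain ⟨U, -, hU⟩ := exists_chart_eq x A V
  obtain rfl : chart x A U = V := Subtype.ext hU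
  obtain ⟨e⟩ := rng_flat_equiv K U (π_app_surjective K (isQCoh_EA A) hQ (chart x A U))
  haveI := hQ
  have e' : (chart x A U).1 ≤ XApr x A ⁻¹ᵁ ⊤ := fun _ _ => trivial
  refine (FlatH4.isFlatOverAt_iff (XApr x A) (cokernel K.arrow) ⊤ (isAffineOpen_top _) (chart x A U).1
    (chart x A U).2 e' hzV).2 ?_
  letI := ((XApr x A).appLE ⊤ (chart x A U).1 e').hom.toAlgebra
  letI := FlatH4.secModuleOver (XApr x A) (cokernel K.arrow) ⊤ (chart x A U).1 e'
  haveI : IsScalarTower Γ(Spec (CommRingCat.of A.carrier), ⊤) Γ(XA x A, (chart x A U).1)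
      Γ(cokernel K.arrow, (chart x A U).1) := IsScalarTower.of_algebraMap_smul fun _ _ => rfl
  haveI : Module.Flat Γ(Spec (CommRingCat.of A.carrier), ⊤) Γ(cokernel K.arrow, (chart x A U).1) := by
    letI : Module A.carrier Γ(cokernel K.arrow, (chart x A U).1) := Module.compHom _ (cσ x A U)
    haveI : Module.Flat A.carrier Γ(cokernel K.arrow, (chart x A U).1) := by
      haveI := h U
      exact Module.Flat.of_linearEquiv e.symm
    let φ := (Scheme.ΓSpecIso (CommRingCat.of A.carrier)).inv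
    letI : Algebra A.carrier Γ(Spec (CommRingCat.of A.carrier), ⊤) := φ.hom.toAlgebra
    haveI : IsScalarTower A.carrier Γ(Spec (CommRingCat.of A.carrier), ⊤) Γ(cokernel K.arrow, (chart x A U).1) :=
      IsScalarTower.of_algebraMap_smul fun _ _ => rfl
    haveI : IsLocalization (Submonoid.powers (1 : A.carrier)) Γ(Spec (CommRingCat.of A.carrier), ⊤) :=
      IsLocalization.away_of_isUnit_of_bijective _ isUnit_one (ConcreteCategory.bijective_of_isIso φ)
    exact (Module.flat_iff_of_isLocalization Γ(Spec (CommRingCat.of A.carrier), ⊤) (Submonoid.powers (1 : A.carrier))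
      Γ(cokernel K.arrow, (chart x A U).1)).2 inferInstance
  exact FlatSyz.flat_localizedModule _

end Groth.Agent.QuotExt3
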